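import Mathlib

/-!
# Lech's lemma for independent sequences
-/

set_option autoImplicit false
universe u

namespace Groth.Agent.KunzRegular

variable {A : Type u} [CommRing A] {ι : Type} [Fintype ι] [DecidableEq ι]

/-- Lech independence. -/
def Indep (y : ι → A) : Prop :=
  ∀ a : ι → A, ∑ i, a i * y i = 0 → ∀ i, a i ∈ Ideal.span (Set.range y)

variable {y : ι → A} {i : ι} {a b : A}

theorem span_le_update (hi : y i = a * b) :
    Ideal.span (Set.range y) ≤ Ideal.span (Set.range (Function.update y i a)) := by
  rw [Ideal.span_le]
  rintro _ ⟨j, rfl⟩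
  by_cases hj : j = i
  · subst hj
    rw [hi]
    exact Ideal.mul_mem_right _ _ (Ideal.subset_span ⟨j, by simp⟩)
  · exact Ideal.subset_span ⟨j, by simp [hj]⟩

theorem Indep.update (h : Indep y) (hi : y i = a * b) : Indep (Function.update y i a) := by
  intro c hc j
  let J := Ideal.span (Set.range y)
  -- multiply the relation by `b`
  have hb : ∀ k, Function.update (fun k => b * c k) i (c i) k ∈ J := by
    refine h _ (Eq.trans ?_ (show b * (∑ k, c k * Function.update y i a k) = 0 by rw [hc, mul_zero]))
    rw [Finset.mul_sum]
    refine Finset.sum_congr rfl fun k _ => ?_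
    by_cases hk : k = i
    · subst hk; simp [hi]; ring
    · simp [hk]; ring
  have hci : c i ∈ J := by simpa using hb i
  by_cases hj : j = i
  · exact hj ▸ span_le_update hi hci
  obtain ⟨u, hu⟩ := Submodule.mem_span_range_iff_exists_fun A |>.1 hci
  simp only [smul_eq_mul] at hu
  -- substitute `c i` into the relation
  have h2 : ∀ k, Function.update (fun k => a * u k + c k) i (a * u i) k ∈ J := by
    refine h _ (Eq.trans ?_ hc)
    rw [← Finset.add_sum_erase _ _ (Finset.mem_univ i), ← Finset.add_sum_erase _ (fun k => c k * _) (Finset.mem_univ i)]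
    have e1 : ∑ k ∈ Finset.univ.erase i, Function.update (fun k => a * u k + c k) i (a * u i) k * y k =
        a * (∑ k ∈ Finset.univ.erase i, u k * y k) + ∑ k ∈ Finset.univ.erase i, c k * y k := by
      rw [Finset.mul_sum, ← Finset.sum_add_distrib]
      refine Finset.sum_congr rfl fun k hk => ?_
      simp [(Finset.mem_erase.1 hk).1]; ring
    have e2 : ∑ k ∈ Finset.univ.erase i, c k * Function.update y i a k =
        ∑ k ∈ Finset.univ.erase i, c k * y k :=
      Finset.sum_congr rfl fun k hk => by simp [(Finset.mem_erase.1 hk).1]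
    rw [← Finset.add_sum_erase _ _ (Finset.mem_univ i)] at hu
    rw [e1, e2, Function.update_self, Function.update_self, ← hu]
    ring
  have hj2 : a * u j + c j ∈ J := by simpa [hj] using h2 j
  have := sub_mem (span_le_update hi hj2)
    (Ideal.mul_mem_right (u j) _ (Ideal.subset_span (Set.mem_range.2 ⟨i, Function.update_self i a y⟩)))
  simpa using this

theorem length_update (h : Indep y) (hi : y i = a * b) :
    Module.length A (A ⧸ Ideal.span (Set.range y)) =
      Module.length A (A ⧸ Ideal.span (Set.range (Function.update y i b))) +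
        Module.length A (A ⧸ Ideal.span (Set.range (Function.update y i a))) := by
  let J := Ideal.span (Set.range y)
  let Ja := Ideal.span (Set.range (Function.update y i a))
  let Jb := Ideal.span (Set.range (Function.update y i b))
  have hJb : J ≤ Jb := span_le_update (hi.trans (mul_comm a b))
  have hrest : ∀ j ≠ i, y j ∈ J := fun j _ => Ideal.subset_span ⟨j, rfl⟩
  have hab : ∀ z ∈ Jb, a * z ∈ J := by
    intro z hz
    induction hz using Submodule.span_induction with
    | mem x hx =>
      obtain ⟨j, rfl⟩ := hx
      by_cases hj : j = i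
      · subst hj
        rw [Function.update_self, ← hi]
        exact Ideal.subset_span ⟨j, rfl⟩
      · rw [Function.update_of_ne hj]
        exact Ideal.mul_mem_left _ _ (hrest j hj)
    | zero => simp
    | add x y _ _ hx hy => rw [mul_add]; exact add_mem hx hy
    | smul r x _ hx => rw [smul_eq_mul, mul_left_comm]; exact Ideal.mul_mem_left _ _ hx
  let f : (A ⧸ Jb) →ₗ[A] (A ⧸ J) := Submodule.mapQ Jb J (LinearMap.mulLeft A a) hab
  let g : (A ⧸ J) →ₗ[A] (A ⧸ Ja) := Submodule.mapQ J Ja LinearMap.id (span_le_update hi)
  refine Module.length_eq_add_of_exact f g ?_ ?_ ?_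
  · rw [injective_iff_map_eq_zero]
    intro z hz
    obtain ⟨z, rfl⟩ := Submodule.Quotient.mk_surjective _ z
    rw [Submodule.mapQ_apply, Submodule.Quotient.mk_eq_zero] at hz
    rw [Submodule.Quotient.mk_eq_zero]
    obtain ⟨u, hu⟩ := Submodule.mem_span_range_iff_exists_fun A |>.1 hz
    simp only [smul_eq_mul, LinearMap.mulLeft_apply] at hu
    have h2 : Function.update (fun k => b * u k) i (u i * b - z) i ∈ J := by
      refine h _ (Eq.trans ?_ (show b * (∑ k, u k * y k - a * z) = 0 by rw [hu, sub_self, mul_zero])) i
      rw [← Finset.add_sum_erase _ _ (Finset.mem_univ i),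
        ← Finset.add_sum_erase _ (fun k => u k * y k) (Finset.mem_univ i), Function.update_self]
      have e1 : ∑ k ∈ Finset.univ.erase i, Function.update (fun k => b * u k) i (u i * b - z) k * y k =
          b * ∑ k ∈ Finset.univ.erase i, u k * y k := by
        rw [Finset.mul_sum]
        refine Finset.sum_congr rfl fun k hk => ?_
        simp [(Finset.mem_erase.1 hk).1]; ring
      rw [e1, hi]
      ring
    rw [Function.update_self] at h2
    have := sub_mem (Ideal.mul_mem_left Jb (u i) (Ideal.subset_span
      (Set.mem_range.2 ⟨i, Function.update_self i b y⟩) : b ∈ Jb)) (hJb h2)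
    simpa using this
  · intro z
    obtain ⟨z, rfl⟩ := Submodule.Quotient.mk_surjective _ z
    exact ⟨Submodule.Quotient.mk z, rfl⟩
  · intro z
    obtain ⟨z, rfl⟩ := Submodule.Quotient.mk_surjective _ z
    constructor
    · intro hz
      rw [Submodule.mapQ_apply, Submodule.Quotient.mk_eq_zero] at hz
      obtain ⟨u, hu⟩ := Submodule.mem_span_range_iff_exists_fun A |>.1 hz
      simp only [smul_eq_mul, LinearMap.id_apply] at hu
      refine ⟨Submodule.Quotient.mk (u i), ?_⟩
      rw [Submodule.mapQ_apply, Submodule.Quotient.eq, LinearMap.mulLeft_apply, ← hu,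
        ← Finset.add_sum_erase _ _ (Finset.mem_univ i), Function.update_self, mul_comm a, sub_add_cancel_left]
      refine neg_mem (Ideal.sum_mem _ fun k hk => ?_)
      rw [Function.update_of_ne (Finset.mem_erase.1 hk).1]
      exact Ideal.mul_mem_left _ _ (Ideal.subset_span ⟨k, rfl⟩)
    · rintro ⟨w, hw⟩
      obtain ⟨w, rfl⟩ := Submodule.Quotient.mk_surjective _ w
      rw [← hw, Submodule.mapQ_apply, Submodule.mapQ_apply, Submodule.Quotient.mk_eq_zero]
      exact Ideal.mul_mem_right _ _ (Ideal.subset_span (Set.mem_range.2 ⟨i, Function.update_self i a y⟩))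

/-- Powers of independent powers have colength at least the product of the exponents. -/
theorem prod_le_length (x : ι → A) (hx : Ideal.span (Set.range x) ≠ ⊤) (c : ι → ℕ) (hc : ∀ j, 0 < c j)
    (h : Indep fun j => x j ^ c j) :
    ((∏ j, c j : ℕ) : ℕ∞) ≤ Module.length A (A ⧸ Ideal.span (Set.range fun j => x j ^ c j)) := by
  induction hn : ∑ j, c j using Nat.strong_induction_on generalizing c with
  | _ n ih =>
  by_cases hall : ∀ j, c j = 1
  · have e : (fun j => x j ^ c j) = x := funext fun j => by rw [hall j, pow_one]
    rw [e]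
    simp only [hall, Finset.prod_const_one, Nat.cast_one, ENat.one_le_iff_ne_zero]
    haveI := Ideal.Quotient.nontrivial_iff.2 hx
    exact ne_of_gt Module.length_pos
  · push Not at hall
    obtain ⟨i, hi⟩ := hall
    obtain ⟨k, hk⟩ : ∃ k, c i = k + 2 := ⟨c i - 2, by have := hc i; omega⟩
    have hupd : ∀ m, Function.update (fun j => x j ^ c j) i (x i ^ m) = fun j => x j ^ Function.update c i m j :=
      fun m => funext fun j => by by_cases hj : j = i <;> simp [hj]
    have hfac : (fun j => x j ^ c j) i = x i ^ 1 * x i ^ (k + 1) := by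
      simp only [← pow_add, hk]; congr 1; omega
    have hfac' : (fun j => x j ^ c j) i = x i ^ (k + 1) * x i ^ 1 := hfac.trans (mul_comm _ _)
    have h1 := h.update hfac
    have h2 := h.update hfac'
    rw [hupd] at h1 h2
    have hsum : ∀ m, ∑ j, Function.update c i m j + c i = ∑ j, c j + m := fun m => by
      rw [← Finset.add_sum_erase _ _ (Finset.mem_univ i), ← Finset.add_sum_erase _ c (Finset.mem_univ i),
        Function.update_self, Finset.sum_congr rfl (fun j hj => Function.update_of_ne (Finset.mem_erase.1 hj).1 m c)]
      change m + (Finset.univ.erase i).sum c + c i = c i + (Finset.univ.erase i).sum c + m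
      omega
    have hpos : ∀ m, 0 < m → ∀ j, 0 < Function.update c i m j := fun m hm j => by
      by_cases hj : j = i <;> simp [hj, hm, hc]
    have i1 := ih _ (by have := hsum 1; omega) (Function.update c i 1) (hpos 1 Nat.one_pos) h1 rfl
    have i2 := ih _ (by have := hsum (k + 1); omega) (Function.update c i (k + 1)) (hpos _ k.succ_pos) h2 rfl
    have hprod : ∀ m, ∏ j, Function.update c i m j = m * ∏ j ∈ Finset.univ.erase i, c j := fun m => by
      rw [← Finset.mul_prod_erase _ _ (Finset.mem_univ i), Function.update_self]
      exact congrArg _ (Finset.prod_congr rfl fun j hj => Function.update_of_ne (Finset.mem_erase.1 hj).1 m c)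
    rw [length_update h hfac, hupd, hupd]
    refine le_trans ?_ (add_le_add i2 i1)
    rw [hprod, hprod, ← Finset.mul_prod_erase _ c (Finset.mem_univ i), hk, ← Nat.cast_add, ← add_mul]

end Groth.Agent.KunzRegular
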