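import Groth.Agent.KunzRegular.Lech
import Groth.Agent.HilbSamuel.Bounds

/-!
# Kunz: flat Frobenius implies regular
-/

set_option autoImplicit false
universe u

namespace Groth.Agent.KunzRegular

open IsLocalRing

theorem span_pow_le {A : Type u} [CommRing A] {ι : Type*} [DecidableEq ι] (x : ι → A) (q : ℕ) (t : Finset ι) :
    Ideal.span (x '' t) ^ (t.card * q + 1) ≤ Ideal.span ((fun i => x i ^ q) '' t) := by
  induction t using Finset.induction_on with
  | empty => simp
  | insert i t hi ih =>
    rw [Finset.card_insert_of_notMem hi, Finset.coe_insert, Set.image_insert_eq, Set.image_insert_eq,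
      Ideal.span_insert, Ideal.span_insert,
      show (t.card + 1) * q + 1 = q + (t.card * q + 1) by ring]
    refine Ideal.sup_pow_add_le_pow_sup_pow.trans (sup_le_sup ?_ ih)
    rw [Ideal.span_singleton_pow]

theorem indep_of_flat {A : Type u} [CommRing A] [IsLocalRing A] (φ : A →+* A) (hφ : φ.Flat) {n : ℕ} (x : Fin n → A)
    (hx : Ideal.span (Set.range x) = maximalIdeal A) (hn : (maximalIdeal A).spanFinrank = n) :
    Indep fun i => φ (x i) := by
  classical
  letI : Algebra A A := φ.toAlgebra
  intro a ha i
  let M := A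
  have hflat : @Module.Flat A A _ _ φ.toAlgebra.toModule := hφ
  have hrel : ∑ i, @HSMul.hSMul A A A (@instHSMul A A φ.toAlgebra.toSMul) (x i) (a i) = 0 := by
    rw [← ha]
    exact Finset.sum_congr rfl fun j _ => mul_comm _ _
  obtain ⟨k, c, z, hz, hc⟩ := @Module.Flat.isTrivialRelation_of_sum_smul_eq_zero A A _ _
    φ.toAlgebra.toModule hflat (Fin n) _ x a hrel
  rw [show Set.range (fun i => φ (x i)) = φ '' Set.range x by rw [← Set.range_comp]; rfl, ← Ideal.map_span, hx]
  rw [hz i]
  refine Ideal.sum_mem _ fun j _ => ?_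
  change φ (c i j) * z j ∈ _
  refine Ideal.mul_mem_right _ _ (Ideal.mem_map_of_mem _ ?_)
  by_contra hcm
  rw [mem_maximalIdeal, mem_nonunits_iff, not_not] at hcm
  -- a unit coefficient contradicts minimality
  have hxi : x i ∈ Ideal.span (x '' (Finset.univ.erase i : Finset (Fin n))) := by
    rw [← Ideal.mul_unit_mem_iff_mem _ hcm]
    have h0 := hc j
    rw [← Finset.add_sum_erase _ _ (Finset.mem_univ i), add_eq_zero_iff_eq_neg] at h0
    rw [h0]
    exact neg_mem (Ideal.sum_mem _ fun l hl => Ideal.mul_mem_right _ _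
      (Ideal.subset_span ⟨l, hl, rfl⟩))
  have hle : maximalIdeal A ≤ Ideal.span (x '' (Finset.univ.erase i : Finset (Fin n))) := by
    rw [← hx, Ideal.span_le]
    rintro _ ⟨l, rfl⟩
    by_cases hl : l = i
    · exact hl ▸ hxi
    · exact Ideal.subset_span ⟨l, by simp [hl], rfl⟩
  have heq : Ideal.span (x '' (Finset.univ.erase i : Finset (Fin n))) = maximalIdeal A :=
    le_antisymm (hx ▸ Ideal.span_mono (Set.image_subset_range _ _)) hle
  have h1 := Submodule.spanFinrank_span_le_ncard_of_finite (R := A)
    ((Finset.univ.erase i).finite_toSet.image x)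
  rw [show Submodule.span A (x '' ↑(Finset.univ.erase i)) = maximalIdeal A from heq, hn] at h1
  have h2 := h1.trans (Set.ncard_image_le (Finset.finite_toSet _))
  rw [Set.ncard_coe_finset, Finset.card_erase_of_mem (Finset.mem_univ i), Finset.card_univ,
    Fintype.card_fin] at h2
  have := i.2
  omega

theorem flat_iterateFrobenius {A : Type u} [CommRing A] (p : ℕ) [ExpChar A p] (hF : (frobenius A p).Flat) :
    ∀ e, (iterateFrobenius A p e).Flat := by
  intro e
  induction e with
  | zero => rw [iterateFrobenius_zero]; exact RingHom.Flat.id A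
  | succ e ih =>
    rw [iterateFrobenius_add A p e 1, iterateFrobenius_one]
    exact hF.comp ih

/-- **Kunz**: a Noetherian local ring with flat Frobenius is regular. -/
theorem isRegularLocalRing_of_flat (p : ℕ) [Fact p.Prime] (A : Type u) [CommRing A] [IsNoetherianRing A]
    [IsLocalRing A] [CharP A p] (hF : (frobenius A p).Flat) : IsRegularLocalRing A := by
  classical
  haveI : ExpChar A p := ExpChar.prime Fact.out
  obtain ⟨s, hs, hsp⟩ := Submodule.FG.exists_span_finset_card_eq_spanFinrank
    (IsNoetherian.noetherian (maximalIdeal A))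
  let n := s.card
  let x : Fin n → A := fun i => (s.equivFin.symm i : A)
  have hrange : Set.range x = (s : Set A) := by
    rw [show x = Subtype.val ∘ s.equivFin.symm from rfl, s.equivFin.symm.surjective.range_comp,
      Subtype.range_coe]
  have hx : Ideal.span (Set.range x) = maximalIdeal A := by rw [hrange]; exact hsp
  obtain ⟨d, hd⟩ := HilbSamuel.exists_supportDim_eq_nat (A := A) (M := A)
  obtain ⟨C, hC⟩ := HilbSamuel.exists_chi_le (A := A) d A hd.le
  rw [Module.supportDim_self_eq_ringKrullDim] at hd
  refine IsRegularLocalRing.of_spanFinrank_maximalIdeal_le A ?_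
  rw [hd, ← hs]
  suffices hnd : n ≤ d by exact_mod_cast hnd
  by_contra hlt
  push Not at hlt
  obtain ⟨e, he⟩ : ∃ e, C * (n + 2) ^ d < p ^ e :=
    ⟨_, Nat.lt_pow_self (Fact.out : p.Prime).one_lt⟩
  let q := p ^ e
  have hq : 0 < q := pow_pos (Fact.out : p.Prime).pos e
  have hind : Indep fun i => x i ^ q := by
    have := indep_of_flat (iterateFrobenius A p e) (flat_iterateFrobenius p hF e) x hx hs.symm
    simpa [iterateFrobenius_def] using this
  have hlow := prod_le_length x (by rw [hx]; exact (maximalIdeal.isMaximal A).ne_top)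
    (fun _ => q) (fun _ => hq) hind
  rw [Finset.prod_const, Finset.card_univ, Fintype.card_fin] at hlow
  have hle : (Ring.jacobson A ^ (n * q + 1) • (⊤ : Submodule A A)) ≤
      Ideal.span (Set.range fun i => x i ^ q) := by
    rw [smul_eq_mul, Ideal.mul_top, IsLocalRing.ringJacobson_eq_maximalIdeal, ← hx]
    have := span_pow_le x q Finset.univ
    rwa [Finset.coe_univ, Set.image_univ, Set.image_univ, Finset.card_univ, Fintype.card_fin] at this
  have hup : Module.length A (A ⧸ Ideal.span (Set.range fun i => x i ^ q)) ≤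
      ((C * (n * q + 1 + 1) ^ d : ℕ) : ℕ∞) := by
    refine (Module.length_le_of_surjective (Submodule.factor hle) (Submodule.factor_surjective hle)).trans ?_
    rw [← HilbSamuel.coe_chi]
    exact_mod_cast hC (n * q + 1)
  have h1 : q ^ n ≤ C * (n * q + 1 + 1) ^ d := by exact_mod_cast hlow.trans hup
  have h2 : C * (n * q + 1 + 1) ^ d ≤ C * (n + 2) ^ d * q ^ d := by
    rw [mul_assoc, ← mul_pow]
    exact Nat.mul_le_mul_left _ (Nat.pow_le_pow_left (by nlinarith) _)
  have h3 : q ^ (d + 1) ≤ C * (n + 2) ^ d * q ^ d :=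
    ((Nat.pow_le_pow_right hq hlt).trans h1).trans h2
  rw [pow_succ'] at h3
  exact absurd (Nat.le_of_mul_le_mul_right h3 (pow_pos hq d)) (not_le.2 he)

end Groth.Agent.KunzRegular
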